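import Cfsg.Agent.Lib.Weyl.PoinFin
import Cfsg.Prelude.Def_ChevStructure

/-! Cartan matrices of the seven types and the symmetries of their diagrams. -/

set_option autoImplicit false
set_option synthInstance.maxSize 4096
set_option backward.isDefEq.respectTransparency false

namespace CA.Weyl

/-- `1 + x + ⋯ + x^(d-1)`. -/
def geo (d : ℕ) (x : ℝ) : ℝ := ∑ i ∈ Finset.range d, x ^ i

theorem geo_mul (d : ℕ) (x : ℝ) : geo d x * (x - 1) = x ^ d - 1 := geom_sum_mul x d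

theorem geo_one (d : ℕ) : geo d 1 = d := by simp [geo]

def colsB2 : List (List ℤ) := [[2, -1], [-2, 2]]

def cartB2 : Fin 2 → Fin 2 → ℤ := fun k i => (colsB2.getD i.val []).getD k.val 0

theorem colsB2_spec : ∀ i : Fin 2, colsB2.getD i.val [] = List.ofFn fun k => cartB2 k i := by
  decide +kernel

theorem cartanCoxB2 : CartanCox cartB2 (CoxeterMatrix.B 2) := ⟨by decide +kernel, by decide +kernel⟩

def colsG2 : List (List ℤ) := [[2, -1], [-3, 2]]

def cartG2 : Fin 2 → Fin 2 → ℤ := fun k i => (colsG2.getD i.val []).getD k.val 0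

theorem colsG2_spec : ∀ i : Fin 2, colsG2.getD i.val [] = List.ofFn fun k => cartG2 k i := by
  decide +kernel

theorem cartanCoxG2 : CartanCox cartG2 CoxeterMatrix.G₂ := ⟨by decide +kernel, by decide +kernel⟩

def colsD4 : List (List ℤ) := [[2, -1, 0, 0], [-1, 2, -1, -1], [0, -1, 2, 0], [0, -1, 0, 2]]

def cartD4 : Fin 4 → Fin 4 → ℤ := fun k i => (colsD4.getD i.val []).getD k.val 0

theorem colsD4_spec : ∀ i : Fin 4, colsD4.getD i.val [] = List.ofFn fun k => cartD4 k i := by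
  decide +kernel

theorem cartanCoxD4 : CartanCox cartD4 Cfsg.Lie.coxeterD4 := ⟨by decide +kernel, by decide +kernel⟩

def colsF4 : List (List ℤ) := [[2, -1, 0, 0], [-1, 2, -1, 0], [0, -2, 2, -1], [0, 0, -1, 2]]

def cartF4 : Fin 4 → Fin 4 → ℤ := fun k i => (colsF4.getD i.val []).getD k.val 0

theorem colsF4_spec : ∀ i : Fin 4, colsF4.getD i.val [] = List.ofFn fun k => cartF4 k i := by
  decide +kernel

theorem cartanCoxF4 : CartanCox cartF4 CoxeterMatrix.F₄ := ⟨by decide +kernel, by decide +kernel⟩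

def colsE6 : List (List ℤ) := [[2, 0, -1, 0, 0, 0], [0, 2, 0, -1, 0, 0], [-1, 0, 2, -1, 0, 0], [0, -1, -1, 2, -1, 0], [0, 0, 0, -1, 2, -1], [0, 0, 0, 0, -1, 2]]

def cartE6 : Fin 6 → Fin 6 → ℤ := fun k i => (colsE6.getD i.val []).getD k.val 0

theorem colsE6_spec : ∀ i : Fin 6, colsE6.getD i.val [] = List.ofFn fun k => cartE6 k i := by
  decide +kernel

theorem cartanCoxE6 : CartanCox cartE6 CoxeterMatrix.E₆ := ⟨by decide +kernel, by decide +kernel⟩

def colsE7 : List (List ℤ) := [[2, 0, -1, 0, 0, 0, 0], [0, 2, 0, -1, 0, 0, 0], [-1, 0, 2, -1, 0, 0, 0], [0, -1, -1, 2, -1, 0, 0], [0, 0, 0, -1, 2, -1, 0], [0, 0, 0, 0, -1, 2, -1], [0, 0, 0, 0, 0, -1, 2]]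

def cartE7 : Fin 7 → Fin 7 → ℤ := fun k i => (colsE7.getD i.val []).getD k.val 0

theorem colsE7_spec : ∀ i : Fin 7, colsE7.getD i.val [] = List.ofFn fun k => cartE7 k i := by
  decide +kernel

theorem cartanCoxE7 : CartanCox cartE7 CoxeterMatrix.E₇ := ⟨by decide +kernel, by decide +kernel⟩

def colsE8 : List (List ℤ) := [[2, 0, -1, 0, 0, 0, 0, 0], [0, 2, 0, -1, 0, 0, 0, 0], [-1, 0, 2, -1, 0, 0, 0, 0], [0, -1, -1, 2, -1, 0, 0, 0], [0, 0, 0, -1, 2, -1, 0, 0], [0, 0, 0, 0, -1, 2, -1, 0], [0, 0, 0, 0, 0, -1, 2, -1], [0, 0, 0, 0, 0, 0, -1, 2]]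

def cartE8 : Fin 8 → Fin 8 → ℤ := fun k i => (colsE8.getD i.val []).getD k.val 0

theorem colsE8_spec : ∀ i : Fin 8, colsE8.getD i.val [] = List.ofFn fun k => cartE8 k i := by
  decide +kernel

theorem cartanCoxE8 : CartanCox cartE8 CoxeterMatrix.E₈ := ⟨by decide +kernel, by decide +kernel⟩

def rhoE6 : Equiv.Perm (Fin 6) := ⟨![5, 1, 4, 3, 2, 0], ![5, 1, 4, 3, 2, 0], by decide, by decide⟩
def rhoD4 : Equiv.Perm (Fin 4) := ⟨![2, 1, 3, 0], ![3, 1, 0, 2], by decide, by decide⟩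
def rhoF4 : Equiv.Perm (Fin 4) := ⟨![3, 2, 1, 0], ![3, 2, 1, 0], by decide, by decide⟩
def rhoG2 : Equiv.Perm (Fin 2) := ⟨![1, 0], ![1, 0], by decide, by decide⟩

end CA.Weyl
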