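import Cfsg.Agent.Lib.Weyl.Cartan

/-! Poincaré polynomials (generated orbit certificates). -/

set_option autoImplicit false
set_option maxRecDepth 100000
set_option synthInstance.maxSize 4096

namespace CA.Weyl

def tabE80 : List (List ℤ × ℕ) := [([1, 0, 0, 0, 0, 0, 0, 0], 0), ([-1, 0, 1, 0, 0, 0, 0, 0], 1)]

def tabE81 : List (List ℤ × ℕ) := [([0, 0, 1, 0, 0, 0, 0, 0], 0), ([1, 0, -1, 1, 0, 0, 0, 0], 1), ([-1, 0, 0, 1, 0, 0, 0, 0], 2)]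

def tabE82 : List (List ℤ × ℕ) := [([0, 0, 0, 1, 0, 0, 0, 0], 0), ([0, 1, 1, -1, 1, 0, 0, 0], 1), ([1, 1, -1, 0, 1, 0, 0, 0], 2),
  ([-1, 1, 0, 0, 1, 0, 0, 0], 3)]

def tabE83 : List (List ℤ × ℕ) := [([0, 1, 0, 0, 0, 0, 0, 0], 0), ([0, -1, 0, 1, 0, 0, 0, 0], 1), ([0, 0, 1, -1, 1, 0, 0, 0], 2),
  ([1, 0, -1, 0, 1, 0, 0, 0], 3), ([-1, 0, 0, 0, 1, 0, 0, 0], 4)]

def tabE84 : List (List ℤ × ℕ) := [([0, 0, 0, 0, 1, 0, 0, 0], 0), ([0, 0, 0, 1, -1, 1, 0, 0], 1), ([0, 1, 1, -1, 0, 1, 0, 0], 2),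
  ([1, 1, -1, 0, 0, 1, 0, 0], 3), ([0, -1, 1, 0, 0, 1, 0, 0], 3), ([-1, 1, 0, 0, 0, 1, 0, 0], 4),
  ([1, -1, -1, 1, 0, 1, 0, 0], 4), ([-1, -1, 0, 1, 0, 1, 0, 0], 5), ([1, 0, 0, -1, 1, 1, 0, 0], 5),
  ([-1, 0, 1, -1, 1, 1, 0, 0], 6), ([1, 0, 0, 0, -1, 2, 0, 0], 6), ([0, 0, -1, 0, 1, 1, 0, 0], 7),
  ([-1, 0, 1, 0, -1, 2, 0, 0], 7), ([0, 0, -1, 1, -1, 2, 0, 0], 8), ([0, 1, 0, -1, 0, 2, 0, 0], 9),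
  ([0, -1, 0, 0, 0, 2, 0, 0], 10)]

def tabE85 : List (List ℤ × ℕ) := [([0, 0, 0, 0, 0, 1, 0, 0], 0), ([0, 0, 0, 0, 1, -1, 1, 0], 1), ([0, 0, 0, 1, -1, 0, 1, 0], 2),
  ([0, 1, 1, -1, 0, 0, 1, 0], 3), ([1, 1, -1, 0, 0, 0, 1, 0], 4), ([0, -1, 1, 0, 0, 0, 1, 0], 4),
  ([-1, 1, 0, 0, 0, 0, 1, 0], 5), ([1, -1, -1, 1, 0, 0, 1, 0], 5), ([-1, -1, 0, 1, 0, 0, 1, 0], 6),
  ([1, 0, 0, -1, 1, 0, 1, 0], 6), ([-1, 0, 1, -1, 1, 0, 1, 0], 7), ([1, 0, 0, 0, -1, 1, 1, 0], 7),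
  ([0, 0, -1, 0, 1, 0, 1, 0], 8), ([-1, 0, 1, 0, -1, 1, 1, 0], 8), ([1, 0, 0, 0, 0, -1, 2, 0], 8),
  ([0, 0, -1, 1, -1, 1, 1, 0], 9), ([-1, 0, 1, 0, 0, -1, 2, 0], 9), ([0, 1, 0, -1, 0, 1, 1, 0], 10),
  ([0, 0, -1, 1, 0, -1, 2, 0], 10), ([0, -1, 0, 0, 0, 1, 1, 0], 11), ([0, 1, 0, -1, 1, -1, 2, 0], 11),
  ([0, -1, 0, 0, 1, -1, 2, 0], 12), ([0, 1, 0, 0, -1, 0, 2, 0], 12), ([0, -1, 0, 1, -1, 0, 2, 0], 13),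
  ([0, 0, 1, -1, 0, 0, 2, 0], 14), ([1, 0, -1, 0, 0, 0, 2, 0], 15), ([-1, 0, 0, 0, 0, 0, 2, 0], 16)]

def tabE86 : List (List ℤ × ℕ) := [([0, 0, 0, 0, 0, 0, 1, 0], 0), ([0, 0, 0, 0, 0, 1, -1, 1], 1), ([0, 0, 0, 0, 1, -1, 0, 1], 2),
  ([0, 0, 0, 1, -1, 0, 0, 1], 3), ([0, 1, 1, -1, 0, 0, 0, 1], 4), ([1, 1, -1, 0, 0, 0, 0, 1], 5),
  ([0, -1, 1, 0, 0, 0, 0, 1], 5), ([-1, 1, 0, 0, 0, 0, 0, 1], 6), ([1, -1, -1, 1, 0, 0, 0, 1], 6),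
  ([-1, -1, 0, 1, 0, 0, 0, 1], 7), ([1, 0, 0, -1, 1, 0, 0, 1], 7), ([-1, 0, 1, -1, 1, 0, 0, 1], 8),
  ([1, 0, 0, 0, -1, 1, 0, 1], 8), ([0, 0, -1, 0, 1, 0, 0, 1], 9), ([-1, 0, 1, 0, -1, 1, 0, 1], 9),
  ([1, 0, 0, 0, 0, -1, 1, 1], 9), ([0, 0, -1, 1, -1, 1, 0, 1], 10), ([-1, 0, 1, 0, 0, -1, 1, 1], 10),
  ([1, 0, 0, 0, 0, 0, -1, 2], 10), ([0, 1, 0, -1, 0, 1, 0, 1], 11), ([0, 0, -1, 1, 0, -1, 1, 1], 11),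
  ([-1, 0, 1, 0, 0, 0, -1, 2], 11), ([0, -1, 0, 0, 0, 1, 0, 1], 12), ([0, 1, 0, -1, 1, -1, 1, 1], 12),
  ([0, 0, -1, 1, 0, 0, -1, 2], 12), ([0, -1, 0, 0, 1, -1, 1, 1], 13), ([0, 1, 0, 0, -1, 0, 1, 1], 13),
  ([0, 1, 0, -1, 1, 0, -1, 2], 13), ([0, -1, 0, 1, -1, 0, 1, 1], 14), ([0, -1, 0, 0, 1, 0, -1, 2], 14),
  ([0, 1, 0, 0, -1, 1, -1, 2], 14), ([0, 0, 1, -1, 0, 0, 1, 1], 15), ([0, -1, 0, 1, -1, 1, -1, 2], 15),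
  ([0, 1, 0, 0, 0, -1, 0, 2], 15), ([1, 0, -1, 0, 0, 0, 1, 1], 16), ([0, 0, 1, -1, 0, 1, -1, 2], 16),
  ([0, -1, 0, 1, 0, -1, 0, 2], 16), ([-1, 0, 0, 0, 0, 0, 1, 1], 17), ([1, 0, -1, 0, 0, 1, -1, 2], 17),
  ([0, 0, 1, -1, 1, -1, 0, 2], 17), ([-1, 0, 0, 0, 0, 1, -1, 2], 18), ([1, 0, -1, 0, 1, -1, 0, 2], 18),
  ([0, 0, 1, 0, -1, 0, 0, 2], 18), ([-1, 0, 0, 0, 1, -1, 0, 2], 19), ([1, 0, -1, 1, -1, 0, 0, 2], 19),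
  ([-1, 0, 0, 1, -1, 0, 0, 2], 20), ([1, 1, 0, -1, 0, 0, 0, 2], 20), ([-1, 1, 1, -1, 0, 0, 0, 2], 21),
  ([1, -1, 0, 0, 0, 0, 0, 2], 21), ([0, 1, -1, 0, 0, 0, 0, 2], 22), ([-1, -1, 1, 0, 0, 0, 0, 2], 22),
  ([0, -1, -1, 1, 0, 0, 0, 2], 23), ([0, 0, 0, -1, 1, 0, 0, 2], 24), ([0, 0, 0, 0, -1, 1, 0, 2], 25),
  ([0, 0, 0, 0, 0, -1, 1, 2], 26), ([0, 0, 0, 0, 0, 0, -1, 3], 27)]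

def tabE87 : List (List ℤ × ℕ) := [([0, 0, 0, 0, 0, 0, 0, 1], 0), ([0, 0, 0, 0, 0, 0, 1, -1], 1), ([0, 0, 0, 0, 0, 1, -1, 0], 2),
  ([0, 0, 0, 0, 1, -1, 0, 0], 3), ([0, 0, 0, 1, -1, 0, 0, 0], 4), ([0, 1, 1, -1, 0, 0, 0, 0], 5),
  ([1, 1, -1, 0, 0, 0, 0, 0], 6), ([0, -1, 1, 0, 0, 0, 0, 0], 6), ([-1, 1, 0, 0, 0, 0, 0, 0], 7),
  ([1, -1, -1, 1, 0, 0, 0, 0], 7), ([-1, -1, 0, 1, 0, 0, 0, 0], 8), ([1, 0, 0, -1, 1, 0, 0, 0], 8),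
  ([-1, 0, 1, -1, 1, 0, 0, 0], 9), ([1, 0, 0, 0, -1, 1, 0, 0], 9), ([0, 0, -1, 0, 1, 0, 0, 0], 10),
  ([-1, 0, 1, 0, -1, 1, 0, 0], 10), ([1, 0, 0, 0, 0, -1, 1, 0], 10), ([0, 0, -1, 1, -1, 1, 0, 0], 11),
  ([-1, 0, 1, 0, 0, -1, 1, 0], 11), ([1, 0, 0, 0, 0, 0, -1, 1], 11), ([0, 1, 0, -1, 0, 1, 0, 0], 12),
  ([0, 0, -1, 1, 0, -1, 1, 0], 12), ([-1, 0, 1, 0, 0, 0, -1, 1], 12), ([1, 0, 0, 0, 0, 0, 0, -1], 12),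
  ([0, -1, 0, 0, 0, 1, 0, 0], 13), ([0, 1, 0, -1, 1, -1, 1, 0], 13), ([0, 0, -1, 1, 0, 0, -1, 1], 13),
  ([-1, 0, 1, 0, 0, 0, 0, -1], 13), ([0, -1, 0, 0, 1, -1, 1, 0], 14), ([0, 1, 0, 0, -1, 0, 1, 0], 14),
  ([0, 1, 0, -1, 1, 0, -1, 1], 14), ([0, 0, -1, 1, 0, 0, 0, -1], 14), ([0, -1, 0, 1, -1, 0, 1, 0], 15),
  ([0, -1, 0, 0, 1, 0, -1, 1], 15), ([0, 1, 0, 0, -1, 1, -1, 1], 15), ([0, 1, 0, -1, 1, 0, 0, -1], 15),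
  ([0, 0, 1, -1, 0, 0, 1, 0], 16), ([0, -1, 0, 1, -1, 1, -1, 1], 16), ([0, -1, 0, 0, 1, 0, 0, -1], 16),
  ([0, 1, 0, 0, 0, -1, 0, 1], 16), ([0, 1, 0, 0, -1, 1, 0, -1], 16), ([1, 0, -1, 0, 0, 0, 1, 0], 17),
  ([0, 0, 1, -1, 0, 1, -1, 1], 17), ([0, -1, 0, 1, 0, -1, 0, 1], 17), ([0, -1, 0, 1, -1, 1, 0, -1], 17),
  ([0, 1, 0, 0, 0, -1, 1, -1], 17), ([-1, 0, 0, 0, 0, 0, 1, 0], 18), ([1, 0, -1, 0, 0, 1, -1, 1], 18),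
  ([0, 0, 1, -1, 1, -1, 0, 1], 18), ([0, 0, 1, -1, 0, 1, 0, -1], 18), ([0, -1, 0, 1, 0, -1, 1, -1], 18),
  ([0, 1, 0, 0, 0, 0, -1, 0], 18), ([-1, 0, 0, 0, 0, 1, -1, 1], 19), ([1, 0, -1, 0, 1, -1, 0, 1], 19),
  ([1, 0, -1, 0, 0, 1, 0, -1], 19), ([0, 0, 1, 0, -1, 0, 0, 1], 19), ([0, 0, 1, -1, 1, -1, 1, -1], 19),
  ([0, -1, 0, 1, 0, 0, -1, 0], 19), ([-1, 0, 0, 0, 1, -1, 0, 1], 20), ([-1, 0, 0, 0, 0, 1, 0, -1], 20),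
  ([1, 0, -1, 1, -1, 0, 0, 1], 20), ([1, 0, -1, 0, 1, -1, 1, -1], 20), ([0, 0, 1, 0, -1, 0, 1, -1], 20),
  ([0, 0, 1, -1, 1, 0, -1, 0], 20), ([-1, 0, 0, 1, -1, 0, 0, 1], 21), ([-1, 0, 0, 0, 1, -1, 1, -1], 21),
  ([1, 1, 0, -1, 0, 0, 0, 1], 21), ([1, 0, -1, 1, -1, 0, 1, -1], 21), ([1, 0, -1, 0, 1, 0, -1, 0], 21),
  ([0, 0, 1, 0, -1, 1, -1, 0], 21), ([-1, 1, 1, -1, 0, 0, 0, 1], 22), ([-1, 0, 0, 1, -1, 0, 1, -1], 22),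
  ([-1, 0, 0, 0, 1, 0, -1, 0], 22), ([1, -1, 0, 0, 0, 0, 0, 1], 22), ([1, 1, 0, -1, 0, 0, 1, -1], 22),
  ([1, 0, -1, 1, -1, 1, -1, 0], 22), ([0, 0, 1, 0, 0, -1, 0, 0], 22), ([0, 1, -1, 0, 0, 0, 0, 1], 23),
  ([-1, -1, 1, 0, 0, 0, 0, 1], 23), ([-1, 1, 1, -1, 0, 0, 1, -1], 23), ([-1, 0, 0, 1, -1, 1, -1, 0], 23),
  ([1, -1, 0, 0, 0, 0, 1, -1], 23), ([1, 1, 0, -1, 0, 1, -1, 0], 23), ([1, 0, -1, 1, 0, -1, 0, 0], 23),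
  ([0, -1, -1, 1, 0, 0, 0, 1], 24), ([0, 1, -1, 0, 0, 0, 1, -1], 24), ([-1, -1, 1, 0, 0, 0, 1, -1], 24),
  ([-1, 1, 1, -1, 0, 1, -1, 0], 24), ([-1, 0, 0, 1, 0, -1, 0, 0], 24), ([1, -1, 0, 0, 0, 1, -1, 0], 24),
  ([1, 1, 0, -1, 1, -1, 0, 0], 24), ([0, 0, 0, -1, 1, 0, 0, 1], 25), ([0, -1, -1, 1, 0, 0, 1, -1], 25),
  ([0, 1, -1, 0, 0, 1, -1, 0], 25), ([-1, -1, 1, 0, 0, 1, -1, 0], 25), ([-1, 1, 1, -1, 1, -1, 0, 0], 25),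
  ([1, -1, 0, 0, 1, -1, 0, 0], 25), ([1, 1, 0, 0, -1, 0, 0, 0], 25), ([0, 0, 0, 0, -1, 1, 0, 1], 26),
  ([0, 0, 0, -1, 1, 0, 1, -1], 26), ([0, -1, -1, 1, 0, 1, -1, 0], 26), ([0, 1, -1, 0, 1, -1, 0, 0], 26),
  ([-1, -1, 1, 0, 1, -1, 0, 0], 26), ([-1, 1, 1, 0, -1, 0, 0, 0], 26), ([1, -1, 0, 1, -1, 0, 0, 0], 26),
  ([0, 0, 0, 0, 0, -1, 1, 1], 27), ([0, 0, 0, 0, -1, 1, 1, -1], 27), ([0, 0, 0, -1, 1, 1, -1, 0], 27),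
  ([0, -1, -1, 1, 1, -1, 0, 0], 27), ([0, 1, -1, 1, -1, 0, 0, 0], 27), ([-1, -1, 1, 1, -1, 0, 0, 0], 27),
  ([1, 0, 1, -1, 0, 0, 0, 0], 27), ([0, 0, 0, 0, 0, 0, -1, 2], 28), ([0, 0, 0, 0, 0, -1, 2, -1], 28),
  ([0, 0, 0, 0, -1, 2, -1, 0], 28), ([0, 0, 0, -1, 2, -1, 0, 0], 28), ([0, -1, -1, 2, -1, 0, 0, 0], 28),
  ([0, 2, 0, -1, 0, 0, 0, 0], 28), ([-1, 0, 2, -1, 0, 0, 0, 0], 28), ([2, 0, -1, 0, 0, 0, 0, 0], 28),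
  ([0, 0, 0, 0, 0, 0, 1, -2], 29), ([0, 0, 0, 0, 0, 1, -2, 1], 29), ([0, 0, 0, 0, 1, -2, 1, 0], 29),
  ([0, 0, 0, 1, -2, 1, 0, 0], 29), ([0, 1, 1, -2, 1, 0, 0, 0], 29), ([0, -2, 0, 1, 0, 0, 0, 0], 29),
  ([1, 0, -2, 1, 0, 0, 0, 0], 29), ([-2, 0, 1, 0, 0, 0, 0, 0], 29), ([0, 0, 0, 0, 0, 1, -1, -1], 30),
  ([0, 0, 0, 0, 1, -1, -1, 1], 30), ([0, 0, 0, 1, -1, -1, 1, 0], 30), ([0, 1, 1, -1, -1, 1, 0, 0], 30),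
  ([1, 1, -1, -1, 1, 0, 0, 0], 30), ([0, -1, 1, -1, 1, 0, 0, 0], 30), ([-1, 0, -1, 1, 0, 0, 0, 0], 30),
  ([0, 0, 0, 0, 1, -1, 0, -1], 31), ([0, 0, 0, 1, -1, 0, -1, 1], 31), ([0, 1, 1, -1, 0, -1, 1, 0], 31),
  ([1, 1, -1, 0, -1, 1, 0, 0], 31), ([0, -1, 1, 0, -1, 1, 0, 0], 31), ([-1, 1, 0, -1, 1, 0, 0, 0], 31),
  ([1, -1, -1, 0, 1, 0, 0, 0], 31), ([0, 0, 0, 1, -1, 0, 0, -1], 32), ([0, 1, 1, -1, 0, 0, -1, 1], 32),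
  ([1, 1, -1, 0, 0, -1, 1, 0], 32), ([0, -1, 1, 0, 0, -1, 1, 0], 32), ([-1, 1, 0, 0, -1, 1, 0, 0], 32),
  ([1, -1, -1, 1, -1, 1, 0, 0], 32), ([-1, -1, 0, 0, 1, 0, 0, 0], 32), ([0, 1, 1, -1, 0, 0, 0, -1], 33),
  ([1, 1, -1, 0, 0, 0, -1, 1], 33), ([0, -1, 1, 0, 0, 0, -1, 1], 33), ([-1, 1, 0, 0, 0, -1, 1, 0], 33),
  ([1, -1, -1, 1, 0, -1, 1, 0], 33), ([-1, -1, 0, 1, -1, 1, 0, 0], 33), ([1, 0, 0, -1, 0, 1, 0, 0], 33),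
  ([1, 1, -1, 0, 0, 0, 0, -1], 34), ([0, -1, 1, 0, 0, 0, 0, -1], 34), ([-1, 1, 0, 0, 0, 0, -1, 1], 34),
  ([1, -1, -1, 1, 0, 0, -1, 1], 34), ([-1, -1, 0, 1, 0, -1, 1, 0], 34), ([1, 0, 0, -1, 1, -1, 1, 0], 34),
  ([-1, 0, 1, -1, 0, 1, 0, 0], 34), ([-1, 1, 0, 0, 0, 0, 0, -1], 35), ([1, -1, -1, 1, 0, 0, 0, -1], 35),
  ([-1, -1, 0, 1, 0, 0, -1, 1], 35), ([1, 0, 0, -1, 1, 0, -1, 1], 35), ([-1, 0, 1, -1, 1, -1, 1, 0], 35),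
  ([1, 0, 0, 0, -1, 0, 1, 0], 35), ([0, 0, -1, 0, 0, 1, 0, 0], 35), ([-1, -1, 0, 1, 0, 0, 0, -1], 36),
  ([1, 0, 0, -1, 1, 0, 0, -1], 36), ([-1, 0, 1, -1, 1, 0, -1, 1], 36), ([1, 0, 0, 0, -1, 1, -1, 1], 36),
  ([0, 0, -1, 0, 1, -1, 1, 0], 36), ([-1, 0, 1, 0, -1, 0, 1, 0], 36), ([-1, 0, 1, -1, 1, 0, 0, -1], 37),
  ([1, 0, 0, 0, -1, 1, 0, -1], 37), ([0, 0, -1, 0, 1, 0, -1, 1], 37), ([-1, 0, 1, 0, -1, 1, -1, 1], 37),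
  ([1, 0, 0, 0, 0, -1, 0, 1], 37), ([0, 0, -1, 1, -1, 0, 1, 0], 37), ([0, 0, -1, 0, 1, 0, 0, -1], 38),
  ([-1, 0, 1, 0, -1, 1, 0, -1], 38), ([1, 0, 0, 0, 0, -1, 1, -1], 38), ([0, 0, -1, 1, -1, 1, -1, 1], 38),
  ([-1, 0, 1, 0, 0, -1, 0, 1], 38), ([0, 1, 0, -1, 0, 0, 1, 0], 38), ([0, 0, -1, 1, -1, 1, 0, -1], 39),
  ([-1, 0, 1, 0, 0, -1, 1, -1], 39), ([1, 0, 0, 0, 0, 0, -1, 0], 39), ([0, 1, 0, -1, 0, 1, -1, 1], 39),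
  ([0, 0, -1, 1, 0, -1, 0, 1], 39), ([0, -1, 0, 0, 0, 0, 1, 0], 39), ([0, 1, 0, -1, 0, 1, 0, -1], 40),
  ([0, 0, -1, 1, 0, -1, 1, -1], 40), ([-1, 0, 1, 0, 0, 0, -1, 0], 40), ([0, -1, 0, 0, 0, 1, -1, 1], 40),
  ([0, 1, 0, -1, 1, -1, 0, 1], 40), ([0, -1, 0, 0, 0, 1, 0, -1], 41), ([0, 1, 0, -1, 1, -1, 1, -1], 41),
  ([0, 0, -1, 1, 0, 0, -1, 0], 41), ([0, -1, 0, 0, 1, -1, 0, 1], 41), ([0, 1, 0, 0, -1, 0, 0, 1], 41),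
  ([0, -1, 0, 0, 1, -1, 1, -1], 42), ([0, 1, 0, 0, -1, 0, 1, -1], 42), ([0, 1, 0, -1, 1, 0, -1, 0], 42),
  ([0, -1, 0, 1, -1, 0, 0, 1], 42), ([0, -1, 0, 1, -1, 0, 1, -1], 43), ([0, -1, 0, 0, 1, 0, -1, 0], 43),
  ([0, 1, 0, 0, -1, 1, -1, 0], 43), ([0, 0, 1, -1, 0, 0, 0, 1], 43), ([0, 0, 1, -1, 0, 0, 1, -1], 44),
  ([0, -1, 0, 1, -1, 1, -1, 0], 44), ([0, 1, 0, 0, 0, -1, 0, 0], 44), ([1, 0, -1, 0, 0, 0, 0, 1], 44),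
  ([1, 0, -1, 0, 0, 0, 1, -1], 45), ([0, 0, 1, -1, 0, 1, -1, 0], 45), ([0, -1, 0, 1, 0, -1, 0, 0], 45),
  ([-1, 0, 0, 0, 0, 0, 0, 1], 45), ([-1, 0, 0, 0, 0, 0, 1, -1], 46), ([1, 0, -1, 0, 0, 1, -1, 0], 46),
  ([0, 0, 1, -1, 1, -1, 0, 0], 46), ([-1, 0, 0, 0, 0, 1, -1, 0], 47), ([1, 0, -1, 0, 1, -1, 0, 0], 47),
  ([0, 0, 1, 0, -1, 0, 0, 0], 47), ([-1, 0, 0, 0, 1, -1, 0, 0], 48), ([1, 0, -1, 1, -1, 0, 0, 0], 48),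
  ([-1, 0, 0, 1, -1, 0, 0, 0], 49), ([1, 1, 0, -1, 0, 0, 0, 0], 49), ([-1, 1, 1, -1, 0, 0, 0, 0], 50),
  ([1, -1, 0, 0, 0, 0, 0, 0], 50), ([0, 1, -1, 0, 0, 0, 0, 0], 51), ([-1, -1, 1, 0, 0, 0, 0, 0], 51),
  ([0, -1, -1, 1, 0, 0, 0, 0], 52), ([0, 0, 0, -1, 1, 0, 0, 0], 53), ([0, 0, 0, 0, -1, 1, 0, 0], 54),
  ([0, 0, 0, 0, 0, -1, 1, 0], 55), ([0, 0, 0, 0, 0, 0, -1, 1], 56), ([0, 0, 0, 0, 0, 0, 0, -1], 57)]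

theorem poinE8 {W : Type*} [Group W] (cs : CoxeterSystem CoxeterMatrix.E₈ W) :
    HasPoin cs Set.univ fun x => geo 2 x * geo 8 x * geo 12 x * geo 14 x * geo 18 x * geo 20 x * geo 24 x * geo 30 x := by
  let τ : W ≃* W := MulEquiv.refl W
  have hτ : ∀ i, τ (cs.simple i) = cs.simple ((1 : Equiv.Perm (Fin 8)) i) := fun _ => rfl
  have h0 := hasPoin_nil cs τ
  have h1 := cartanCoxE8.poin_step_fin cs hτ colsE8_spec [0] [] [([0], [0])]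
    ![1, 0, 0, 0, 0, 0, 0, 0] tabE80 [0, 1]
    (by decide +kernel) (by decide +kernel) (by decide +kernel) h0
  have h2 := cartanCoxE8.poin_step_fin cs hτ colsE8_spec [0, 2] [0] [([0], [0]), ([2], [2])]
    ![0, 0, 1, 0, 0, 0, 0, 0] tabE81 [0, 1, 2]
    (by decide +kernel) (by decide +kernel) (by decide +kernel) h1
  have h3 := cartanCoxE8.poin_step_fin cs hτ colsE8_spec [0, 2, 3] [0, 2] [([0], [0]), ([2], [2]), ([3], [3])]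
    ![0, 0, 0, 1, 0, 0, 0, 0] tabE82 [0, 1, 2, 3]
    (by decide +kernel) (by decide +kernel) (by decide +kernel) h2
  have h4 := cartanCoxE8.poin_step_fin cs hτ colsE8_spec [0, 2, 3, 1] [0, 2, 3] [([0], [0]), ([2], [2]), ([3], [3]), ([1], [1])]
    ![0, 1, 0, 0, 0, 0, 0, 0] tabE83 [0, 1, 2, 3, 4]
    (by decide +kernel) (by decide +kernel) (by decide +kernel) h3
  have h5 := cartanCoxE8.poin_step_fin cs hτ colsE8_spec [0, 2, 3, 1, 4] [0, 2, 3, 1] [([0], [0]), ([2], [2]), ([3], [3]), ([1], [1]), ([4], [4])]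
    ![0, 0, 0, 0, 1, 0, 0, 0] tabE84 [0, 1, 2, 3, 3, 4, 4, 5, 5, 6, 6, 7, 7, 8, 9, 10]
    (by decide +kernel) (by decide +kernel) (by decide +kernel) h4
  have h6 := cartanCoxE8.poin_step_fin cs hτ colsE8_spec [0, 2, 3, 1, 4, 5] [0, 2, 3, 1, 4] [([0], [0]), ([2], [2]), ([3], [3]), ([1], [1]), ([4], [4]), ([5], [5])]
    ![0, 0, 0, 0, 0, 1, 0, 0] tabE85 [0, 1, 2, 3, 4, 4, 5, 5, 6, 6, 7, 7, 8, 8, 8, 9, 9, 10, 10, 11, 11, 12, 12, 13, 14, 15, 16]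
    (by decide +kernel) (by decide +kernel) (by decide +kernel) h5
  have h7 := cartanCoxE8.poin_step_fin cs hτ colsE8_spec [0, 2, 3, 1, 4, 5, 6] [0, 2, 3, 1, 4, 5] [([0], [0]), ([2], [2]), ([3], [3]), ([1], [1]), ([4], [4]), ([5], [5]), ([6], [6])]
    ![0, 0, 0, 0, 0, 0, 1, 0] tabE86 [0, 1, 2, 3, 4, 5, 5, 6, 6, 7, 7, 8, 8, 9, 9, 9, 10, 10, 10, 11, 11, 11, 12, 12, 12, 13, 13, 13, 14, 14, 14, 15, 15, 15, 16, 16, 16, 17, 17, 17, 18, 18, 18, 19, 19, 20, 20, 21, 21, 22, 22, 23, 24, 25, 26, 27]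
    (by decide +kernel) (by decide +kernel) (by decide +kernel) h6
  have h8 := cartanCoxE8.poin_step_fin cs hτ colsE8_spec [0, 2, 3, 1, 4, 5, 6, 7] [0, 2, 3, 1, 4, 5, 6] [([0], [0]), ([2], [2]), ([3], [3]), ([1], [1]), ([4], [4]), ([5], [5]), ([6], [6]), ([7], [7])]
    ![0, 0, 0, 0, 0, 0, 0, 1] tabE87 [0, 1, 2, 3, 4, 5, 6, 6, 7, 7, 8, 8, 9, 9, 10, 10, 10, 11, 11, 11, 12, 12, 12, 12, 13, 13, 13, 13, 14, 14, 14, 14, 15, 15, 15, 15, 16, 16, 16, 16, 16, 17, 17, 17, 17, 17, 18, 18, 18, 18, 18, 18, 19, 19, 19, 19, 19, 19, 20, 20, 20, 20, 20, 20, 21, 21, 21, 21, 21, 21, 22, 22, 22, 22, 22, 22, 22, 23, 23, 23, 23, 23, 23, 23, 24, 24, 24, 24, 24, 24, 24, 25, 25, 25, 25, 25, 25, 25, 26, 26, 26, 26, 26, 26, 26, 27, 27, 27, 27, 27, 27, 27, 28, 28, 28,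 28, 28, 28, 28, 28, 29, 29, 29, 29, 29, 29, 29, 29, 30, 30, 30, 30, 30, 30, 30, 31, 31, 31, 31, 31, 31, 31, 32, 32, 32, 32, 32, 32, 32, 33, 33, 33, 33, 33, 33, 33, 34, 34, 34, 34, 34, 34, 34, 35, 35, 35, 35, 35, 35, 35, 36, 36, 36, 36, 36, 36, 37, 37, 37, 37, 37, 37, 38, 38, 38, 38, 38, 38, 39, 39, 39, 39, 39, 39, 40, 40, 40, 40, 40, 41, 41, 41, 41, 41, 42, 42, 42, 42, 43, 43, 43, 43, 44, 44, 44, 44, 45, 45, 45, 45, 46, 46, 46, 47, 47, 47, 48, 48, 49, 49, 50, 50, 51, 51, 52, 53, 54, 55, 56, 57]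
    (by decide +kernel) (by decide +kernel) (by decide +kernel) h7
  refine ((h8.of_all (by decide)).congr_set (S' := Set.univ) (fun w => by simp [τ])).congr
    fun x => ?_
  simp only [List.map_cons, List.map_nil, List.sum_cons, List.sum_nil, geo, Finset.sum_range_succ,
    Finset.sum_range_zero]
  ring

end CA.Weyl
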